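import Mathlib

/-!
# Flatness of localizations of a generically free module (helper16)

* `flat_of_isLocalizedModule_algebra`: a localization (over an `R`-algebra `A`) of an `R`-flat
  `A`-module is `R`-flat.
* `flat_of_free_away`: the algebraic core of generic flatness in sheaf form.
-/

set_option autoImplicit false
universe u

open TensorProduct

namespace Groth.Agent.Lib.Helper16

namespace GenFlat

/-- A localization over an `R`-algebra `A` of an `R`-flat `A`-module is `R`-flat. -/
theorem flat_of_isLocalizedModule_algebra {R A M M' : Type*} [CommRing R] [CommRing A]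
    [Algebra R A] [AddCommGroup M] [Module R M] [Module A M] [IsScalarTower R A M]
    [AddCommGroup M'] [Module R M'] [Module A M'] [IsScalarTower R A M'] (S : Submonoid A)
    (g : M →ₗ[A] M') [IsLocalizedModule S g] [hM : Module.Flat R M] : Module.Flat R M' := by
  rw [Module.Flat.iff_lTensor_injectiveₛ] at hM ⊢
  intro P _ _ N
  have h1 : Function.Injective (AlgebraTensorModule.lTensor A M N.subtype) := hM N
  have h2 := IsLocalizedModule.map_injective S (AlgebraTensorModule.rTensor R N g)
    (AlgebraTensorModule.rTensor R P g) _ h1
  rw [IsLocalizedModule.map_lTensor] at h2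
  exact h2

/-- If the `R`-module underlying an `S`-module `M` becomes free after inverting `f : R`, then
every localization of `M` at a submonoid of `S` containing the image of `f` is flat over `R`. -/
theorem flat_of_free_away {R S M N : Type u} [CommRing R] [CommRing S] [Algebra R S]
    [AddCommGroup M] [Module R M] [Module S M] [IsScalarTower R S M]
    [AddCommGroup N] [Module R N] [Module S N] [IsScalarTower R S N]
    (f : R) (hfree : Module.Free (Localization.Away f) (Localization.Away f ⊗[R] M))
    (T : Submonoid S) (hf : algebraMap R S f ∈ T) (g : M →ₗ[S] N) [IsLocalizedModule T g] :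
    Module.Flat R N := by
  haveI h1 : Module.Flat (Localization.Away f) (Localization.Away f ⊗[R] M) := inferInstance
  haveI h2 : Module.Flat R (Localization.Away f ⊗[R] M) :=
    Module.Flat.trans R (Localization.Away f) _
  haveI h3 : Module.Flat R (M ⊗[R] Localization.Away f) :=
    Module.Flat.of_linearEquiv (TensorProduct.comm R M (Localization.Away f))
  haveI h4 : Module.Flat R (N ⊗[R] Localization.Away f) :=
    flat_of_isLocalizedModule_algebra T (AlgebraTensorModule.rTensor R (Localization.Away f) g)
  -- `f` acts invertibly on `N`
  haveI hid : IsLocalizedModule (Submonoid.powers f) (LinearMap.id : N →ₗ[R] N) := by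
    refine ⟨?_, fun y => ⟨⟨y, 1⟩, by simp⟩, fun {x₁ x₂} h => ⟨1, by simpa using h⟩⟩
    rintro ⟨_, n, rfl⟩
    have hu := IsLocalizedModule.map_units g
      ⟨algebraMap R S f ^ n, Submonoid.pow_mem T hf n⟩
    rw [Module.End.isUnit_iff] at hu ⊢
    convert hu using 1
    ext y
    simp only [Module.algebraMap_end_apply]
    rw [← map_pow, algebraMap_smul]
  haveI hmk : IsLocalizedModule (Submonoid.powers f)
      (TensorProduct.mk R (Localization.Away f) N 1) :=
    (isLocalizedModule_iff_isBaseChange (Submonoid.powers f) (Localization.Away f) _).mpr
      (TensorProduct.isBaseChange R N (Localization.Away f))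
  have e : N ≃ₗ[R] N ⊗[R] Localization.Away f :=
    (IsLocalizedModule.linearEquiv (Submonoid.powers f) (LinearMap.id : N →ₗ[R] N)
      (TensorProduct.mk R (Localization.Away f) N 1)).trans
      (TensorProduct.comm R (Localization.Away f) N)
  exact Module.Flat.of_linearEquiv e

end GenFlat

end Groth.Agent.Lib.Helper16
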