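import Groth.Agent.Lib.Helper16.GenFlat.Alg
import Groth.Agent.Lib.Helper91.GenericFreeness
import Groth.Agent.Lib.Helper45.QCohStalk
import Groth.Prelude.Def_FlatMod2

/-!
# Generic flatness for quasi-coherent modules with finite sections (helper16)
-/

set_option autoImplicit false
set_option linter.style.haveILetI false
universe u

open TensorProduct AlgebraicGeometry CategoryTheory

namespace Groth.Agent.Lib.Helper16

namespace GenFlat

variable {X Y : Scheme.{u}}

/-- flatness of the stalk `F_x` over `O_{Y,u x}` from freeness of sections after inverting `f` -/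
theorem isFlatOverAt_of_free_away (u : X ⟶ Y) (F : X.Modules) [F.IsQuasicoherent]
    {V : Y.Opens} (hV : IsAffineOpen V) {W : X.Opens} (hW : IsAffineOpen W) (e : W ≤ u ⁻¹ᵁ V)
    (f : Γ(Y, V))
    (hfree : letI := (u.appLE V W e).hom.toAlgebra
      letI : Module Γ(Y, V) Γ(F, W) := Module.compHom _ (u.appLE V W e).hom
      Module.Free (Localization.Away f) (Localization.Away f ⊗[Γ(Y, V)] Γ(F, W)))
    (x : W) (hxf : u.base (x : X) ∈ Y.basicOpen f) : FlatMod.IsFlatOverAt u F (x : X) := by
  have hxV : u.base (x : X) ∈ V := e x.2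
  letI algRS : Algebra Γ(Y, V) Γ(X, W) := (u.appLE V W e).hom.toAlgebra
  letI modRM : Module Γ(Y, V) Γ(F, W) := Module.compHom _ (u.appLE V W e).hom
  haveI : IsScalarTower Γ(Y, V) Γ(X, W) Γ(F, W) := IsScalarTower.of_compHom _ _ _
  letI modSN : Module Γ(X, W) (F.presheaf.stalk (x : X)) :=
    Groth.Agent.Lib.Helper45.stalkModuleSections F x
  letI modRN : Module Γ(Y, V) (F.presheaf.stalk (x : X)) :=
    Module.compHom _ ((algebraMap Γ(X, W) (X.presheaf.stalk (x : X))).comp
      (algebraMap Γ(Y, V) Γ(X, W)))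
  haveI : IsScalarTower Γ(Y, V) Γ(X, W) (F.presheaf.stalk (x : X)) := by
    refine ⟨fun r s n => ?_⟩
    change algebraMap Γ(X, W) (X.presheaf.stalk (x : X)) (r • s) • n =
      ((algebraMap Γ(X, W) (X.presheaf.stalk (x : X))).comp (algebraMap Γ(Y, V) Γ(X, W))) r •
        (algebraMap Γ(X, W) (X.presheaf.stalk (x : X)) s • n)
    rw [Algebra.smul_def, map_mul, mul_smul]
    rfl
  haveI hloc := Groth.Agent.Lib.Helper45.isLocalizedModule_germₗ hW F x
  have hf : algebraMap Γ(Y, V) Γ(X, W) f ∈ (hW.primeIdealOf x).asIdeal.primeCompl := by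
    refine (Groth.Agent.Lib.Helper45.mem_basicOpen_iff_not_mem_primeIdealOf hW x _).mp ?_
    rw [Scheme.mem_basicOpen _ _ (x : X) x.2]
    have h1 : IsUnit (Y.presheaf.germ V (u.base (x : X)) hxV f) :=
      (Scheme.mem_basicOpen _ _ (u.base (x : X)) hxV).mp hxf
    have h2 := h1.map (u.stalkMap (x : X)).hom
    rw [Scheme.Hom.germ_stalkMap_apply] at h2
    convert h2 using 1
    simp only [RingHom.algebraMap_toAlgebra, Scheme.Hom.appLE, homOfLE_leOfHom,
      CommRingCat.hom_comp, RingHom.coe_comp, Function.comp_apply, X.presheaf.germ_res_apply]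
  have hflat : Module.Flat Γ(Y, V) (F.presheaf.stalk (x : X)) :=
    flat_of_free_away f hfree _ hf (Groth.Agent.Lib.Helper45.germₗ F x)
  -- pass to the local ring of `Y`
  unfold FlatMod.IsFlatOverAt
  letI modR'N : Module (Y.presheaf.stalk (u.base (x : X))) (F.presheaf.stalk (x : X)) :=
    FlatMod.moduleStalkOver u F (x : X)
  letI algRR' : Algebra Γ(Y, V) (Y.presheaf.stalk (u.base (x : X))) :=
    TopCat.Presheaf.algebra_section_stalk Y.presheaf (⟨u.base (x : X), hxV⟩ : V)
  haveI hlocY : IsLocalization.AtPrime (Y.presheaf.stalk (u.base (x : X)))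
      (hV.primeIdealOf (⟨u.base (x : X), hxV⟩ : V)).asIdeal :=
    hV.isLocalization_stalk (⟨u.base (x : X), hxV⟩ : V)
  haveI : IsScalarTower Γ(Y, V) (Y.presheaf.stalk (u.base (x : X)))
      (F.presheaf.stalk (x : X)) := by
    refine IsScalarTower.of_algebraMap_smul fun r n => ?_
    change (u.stalkMap (x : X)).hom
        (algebraMap Γ(Y, V) (Y.presheaf.stalk (u.base (x : X))) r) • n =
      ((algebraMap Γ(X, W) (X.presheaf.stalk (x : X))).comp
        (algebraMap Γ(Y, V) Γ(X, W))) r • n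
    congr 1
    change (u.stalkMap (x : X)).hom (Y.presheaf.germ V (u.base (x : X)) hxV r) = _
    rw [Scheme.Hom.germ_stalkMap_apply]
    simp only [RingHom.algebraMap_toAlgebra, Scheme.Hom.appLE, homOfLE_leOfHom,
      CommRingCat.hom_comp, RingHom.coe_comp, Function.comp_apply, X.presheaf.germ_res_apply]
  exact (Module.flat_iff_of_isLocalization (Y.presheaf.stalk (u.base (x : X)))
    (hV.primeIdealOf (⟨u.base (x : X), hxV⟩ : V)).asIdeal.primeCompl
    (F.presheaf.stalk (x : X))).mpr hflat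

/-- **Generic flatness**, sheaf form: over an integral base, a quasi-coherent module with finite
sections over affine opens on a quasi-compact scheme locally of finite type over the base is flat
over a nonempty open of the base. -/
theorem generic_flatness_sheaf (u : X ⟶ Y) [IsIntegral Y] [LocallyOfFiniteType u] [QuasiCompact u]
    (F : X.Modules) [F.IsQuasicoherent]
    (hfin : ∀ W : X.Opens, IsAffineOpen W → Module.Finite Γ(X, W) Γ(F, W)) :
    ∃ U : Y.Opens, (U : Set Y).Nonempty ∧
      ∀ x : X, u.base x ∈ U → FlatMod.IsFlatOverAt u F x := by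
  obtain ⟨y₀⟩ : Nonempty Y := inferInstance
  obtain ⟨V, hV, hy₀, -⟩ := exists_isAffineOpen_mem_and_subset (x := y₀) (U := ⊤) trivial
  haveI : Nonempty V := ⟨⟨y₀, hy₀⟩⟩
  haveI : IsDomain Γ(Y, V) := inferInstance
  have hc : IsCompact ((u ⁻¹ᵁ V : X.Opens) : Set X) := u.isCompact_preimage hV.isCompact
  obtain ⟨s, hs, hsU⟩ := isCompact_iff_finite_and_eq_biUnion_affineOpens.mp hc
  have key : ∀ W : X.affineOpens, W ∈ s → ∃ f : Γ(Y, V), f ≠ 0 ∧
      ∀ x : X, x ∈ W.1 → u.base x ∈ Y.basicOpen f → FlatMod.IsFlatOverAt u F x := by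
    intro W hWs
    have e : W.1 ≤ u ⁻¹ᵁ V := by
      rw [hsU]
      exact le_iSup₂ (f := fun (i : X.affineOpens) (_ : i ∈ s) => (i : X.Opens)) W hWs
    letI := (u.appLE V W.1 e).hom.toAlgebra
    letI : Module Γ(Y, V) Γ(F, W.1) := Module.compHom _ (u.appLE V W.1 e).hom
    haveI : IsScalarTower Γ(Y, V) Γ(X, W.1) Γ(F, W.1) := IsScalarTower.of_compHom _ _ _
    haveI : Algebra.FiniteType Γ(Y, V) Γ(X, W.1) :=
      HasRingHomProperty.appLE (P := @LocallyOfFiniteType) u inferInstance ⟨V, hV⟩ W e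
    haveI := hfin W.1 W.2
    obtain ⟨f, hf0, hfree, -, -, -⟩ := Groth.Agent.Lib.Helper91.generic_freeness
      (R := Γ(Y, V)) (S := Γ(X, W.1)) (M := Γ(F, W.1))
    exact ⟨f, hf0, fun x hxW hxf => isFlatOverAt_of_free_away u F hV W.2 e f hfree ⟨x, hxW⟩ hxf⟩
  choose! f hf0 hflat using key
  have hg0 : (∏ W ∈ hs.toFinset, f W) ≠ 0 :=
    Finset.prod_ne_zero_iff.mpr (fun W hW => hf0 W (hs.mem_toFinset.mp hW))
  refine ⟨Y.basicOpen (∏ W ∈ hs.toFinset, f W), ?_, ?_⟩
  · refine (TopologicalSpace.Opens.ne_bot_iff_nonempty _).mp ?_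
    rw [Ne, basicOpen_eq_bot_iff]
    exact hg0
  · intro x hx
    have hxV : u.base x ∈ V := Y.basicOpen_le _ hx
    have hx' : x ∈ u ⁻¹ᵁ V := hxV
    rw [hsU] at hx'
    obtain ⟨W, hWs, hxW⟩ : ∃ W ∈ s, x ∈ W.1 := by
      simpa [TopologicalSpace.Opens.mem_iSup] using hx'
    refine hflat W hWs x hxW ?_
    have hle : Y.basicOpen (∏ W ∈ hs.toFinset, f W) ≤ Y.basicOpen (f W) := by
      obtain ⟨c, hc⟩ := Finset.dvd_prod_of_mem f (hs.mem_toFinset.mpr hWs)
      rw [hc, Scheme.basicOpen_mul]
      exact inf_le_left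
    exact hle hx

set_option backward.isDefEq.respectTransparency false in
/-- finitely presented modules are of finite type (instance search needs the backward option) -/
theorem isFiniteType_of_isFinitePresentation (F : X.Modules)
    (hF : SheafOfModules.IsFinitePresentation (R := X.ringCatSheaf) F) :
    SheafOfModules.IsFiniteType (R := X.ringCatSheaf) F := by
  haveI := hF
  infer_instance

end GenFlat

end Groth.Agent.Lib.Helper16
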